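import Cfsg.Agent.H226.EX.Glue
import Cfsg.Agent.H839.EP.AltTen
import Cfsg.Agent.S2119

/-!
# S5745, the rows `T = A₁₀` in `F₄(3)`, `E₆(2)`, `²E₆(2)` (helper786)

`|G : H| ≤ 2 ^ 34` (helper839), `|H| ≤ 10!`.
-/

set_option autoImplicit false

namespace Cfsg.Agent.H786.EX

open Subgroup Cfsg.Agent.H284 Cfsg.Agent.H209.EPX Cfsg.Agent.H59.EP Cfsg.Agent.H419.EP

variable {G : Type} [Group G] [Finite G] [IsSimpleGroup G] {H N : Subgroup G} {T : Type} [Group T]

/-- `T = A₁₀`: `|G| ≤ 2 ^ 34 * 10!` -/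
theorem card_le_alt10 (hBr : Cfsg.Agent.H839.EP.Br) {e : N ≃* (Fin 1 → T)} (h : EPS H N e)
    (i : T ≃* alternatingGroup (Fin 10)) : Nat.card G ≤ 62342309294899200 := by
  have hS : Cfsg.Agent.H839.EP.Soc H N := ⟨h.le, h.nrm, fun a _ hc => by
    have h1 : a ∈ Subgroup.centralizer (N : Set G) := by
      rw [Subgroup.mem_centralizer_iff]
      intro n hn
      exact (hc n hn).symm
    rw [h.cent, mem_bot] at h1
    exact h1⟩
  have h1 := Cfsg.Agent.H839.EP.index_le_of_socle_ten hBr (Cfsg.Agent.H226.EX.ept_of_eps h) hS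
    ((e.trans ⟨Equiv.funUnique (Fin 1) T, fun _ _ => rfl⟩).trans i)
  have hfin : Finite T := Finite.of_equiv _ i.symm.toEquiv
  have h2 : Nat.card H ≤ 3628800 := by
    have h3 := (Cfsg.Agent.H226.EX.hasSoc_of_eps h).card_le
    rwa [Nat.card_congr (MulAut.congr i).toEquiv,
      ← Nat.card_congr (Equiv.ofBijective _ (Cfsg.Agent.S2119.result 10 (by norm_num) (by norm_num))),
      Nat.card_perm, Nat.card_eq_fintype_card (α := Fin 10), Fintype.card_fin, show (10 : ℕ).factorial = 3628800 by decide] at h3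
  have h3 := H.card_mul_index
  have h4 : Nat.card H * H.index ≤ 3628800 * 2 ^ 34 := Nat.mul_le_mul h2 h1
  rw [h3] at h4
  exact h4.trans (by norm_num)

/-- `T = A₁₀` is dead when `|G| > 2 ^ 34 * 10!` -/
theorem alt10_false (hBr : Cfsg.Agent.H839.EP.Br) (hG : 62342309294899200 < Nat.card G) {e : N ≃* (Fin 1 → T)}
    (h : EPS H N e) (i : T ≃* alternatingGroup (Fin 10)) : False :=
  absurd (card_le_alt10 hBr h i) (not_le.2 hG)

/-- `F₄(3)` -/
theorem f4q3_alt10 (hBr : Cfsg.Agent.H839.EP.Br) (hG : Nat.card G = 5734420792816671844761600) {e : N ≃* (Fin 1 → T)}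
    (h : EPS H N e) (i : T ≃* alternatingGroup (Fin 10)) : False :=
  alt10_false hBr (by rw [hG]; norm_num) h i

/-- `E₆(2)` -/
theorem e6q2_alt10 (hBr : Cfsg.Agent.H839.EP.Br) (hG : Nat.card G = 214841575522005575270400) {e : N ≃* (Fin 1 → T)}
    (h : EPS H N e) (i : T ≃* alternatingGroup (Fin 10)) : False :=
  alt10_false hBr (by rw [hG]; norm_num) h i

/-- `²E₆(2)` -/
theorem te6q2_alt10 (hBr : Cfsg.Agent.H839.EP.Br) (hG : Nat.card G = 76532479683774853939200) {e : N ≃* (Fin 1 → T)}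
    (h : EPS H N e) (i : T ≃* alternatingGroup (Fin 10)) : False :=
  alt10_false hBr (by rw [hG]; norm_num) h i

end Cfsg.Agent.H786.EX
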